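import Groth.Agent.TowerLib.Basic
import Mathlib.Algebra.Homology.HomologicalComplexLimits
import Mathlib.Algebra.Homology.HomologicalComplexAbelian
import Mathlib.Algebra.Homology.ShortComplex.Ab
import Mathlib.Algebra.Homology.ShortComplex.HomologicalComplex
import Mathlib.Algebra.Homology.Embedding.CochainComplex
import Mathlib.GroupTheory.QuotientGroup.Basic

/-!
# Cohomology of the limit of a tower of complexes of abelian groups
-/

set_option autoImplicit false

noncomputable section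

set_option backward.isDefEq.respectTransparency false
set_option backward.defeqAttrib.useBackward true

universe u

open CategoryTheory Opposite Limits HomologicalComplex

namespace Groth.Agent.TowerCx

abbrev Cx := HomologicalComplex AddCommGrpCat.{u} (ComplexShape.up ℤ)

section Single

variable (K : Cx.{u}) (q : ℤ)

/-- Cycles. -/
def IsCyc (z : K.X q) : Prop := ∀ j, (K.d q j).hom z = 0

/-- The class of a cycle. -/
def cls (z : K.X q) (hz : IsCyc K q z) : K.homology q :=
  (K.sc q).homologyπ.hom ((K.sc q).abCyclesIso.inv.hom ⟨z, hz _⟩)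

variable {K q}

lemma isCyc_d (p : ℤ) (y : K.X p) : IsCyc K q ((K.d p q).hom y) := fun j =>
  ConcreteCategory.congr_hom (K.d_comp_d p q j) y

lemma isCyc_of_succ {z : K.X q} (p : ℤ) (hp : q + 1 = p) (hz : (K.d q p).hom z = 0) : IsCyc K q z := by
  intro j
  by_cases h : q + 1 = j
  · subst h; subst hp; exact hz
  · rw [K.shape q j h]; rfl

lemma isCyc_sub {z w : K.X q} (hz : IsCyc K q z) (hw : IsCyc K q w) : IsCyc K q (z - w) := fun j => by
  rw [map_sub, hz j, hw j, sub_zero]

lemma cls_surjective (h : K.homology q) : ∃ z hz, cls K q z hz = h := by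
  obtain ⟨c, rfl⟩ := (AddCommGrpCat.epi_iff_surjective (K.sc q).homologyπ).1 inferInstance h
  refine ⟨((K.sc q).abCyclesIso.hom.hom c).1,
    isCyc_of_succ _ ((CochainComplex.next ℤ q).symm) ((K.sc q).abCyclesIso.hom.hom c).2, ?_⟩
  exact congrArg (K.sc q).homologyπ.hom (ConcreteCategory.congr_hom (K.sc q).abCyclesIso.hom_inv_id c)

lemma cls_congr {z w : K.X q} (hz : IsCyc K q z) (hw : IsCyc K q w) (h : z = w) : cls K q z hz = cls K q w hw := by
  subst h; rfl

lemma cls_add {z w : K.X q} (hz : IsCyc K q z) (hw : IsCyc K q w) (h : IsCyc K q (z + w)) :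
    cls K q (z + w) h = cls K q z hz + cls K q w hw := by
  exact map_add ((K.sc q).homologyπ.hom.comp (K.sc q).abCyclesIso.inv.hom) ⟨z, hz _⟩ ⟨w, hw _⟩

lemma cls_sub {z w : K.X q} (hz : IsCyc K q z) (hw : IsCyc K q w) (h : IsCyc K q (z - w)) :
    cls K q (z - w) h = cls K q z hz - cls K q w hw := by
  exact map_sub ((K.sc q).homologyπ.hom.comp (K.sc q).abCyclesIso.inv.hom) ⟨z, hz _⟩ ⟨w, hw _⟩

lemma cls_eq_zero_iff {z : K.X q} (hz : IsCyc K q z) (p : ℤ) (hp : p + 1 = q) :
    cls K q z hz = 0 ↔ ∃ y : K.X p, (K.d p q).hom y = z := by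
  have hp' : (ComplexShape.up ℤ).prev q = p := by rw [CochainComplex.prev]; omega
  subst hp'
  let S := K.sc q
  have e : S.abHomologyIso.hom.hom (cls K q z hz) = QuotientAddGroup.mk (s := S.abToCycles.range) ⟨z, hz _⟩ := by
    refine (ConcreteCategory.congr_hom S.abLeftHomologyData.homologyπ_comp_homologyIso_hom _).trans ?_
    exact congrArg S.abLeftHomologyData.π.hom (ConcreteCategory.congr_hom S.abCyclesIso.inv_hom_id _)
  constructor
  · intro h
    rw [h, map_zero, eq_comm, QuotientAddGroup.eq_zero_iff] at e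
    obtain ⟨y, hy⟩ := e
    exact ⟨y, congrArg Subtype.val hy⟩
  · rintro ⟨y, hy⟩
    apply S.abHomologyIso.addCommGroupIsoToAddEquiv.injective
    show S.abHomologyIso.hom.hom _ = S.abHomologyIso.hom.hom 0
    rw [e, map_zero, QuotientAddGroup.eq_zero_iff]
    exact ⟨y, Subtype.ext hy⟩

lemma cls_eq_iff {z w : K.X q} (hz : IsCyc K q z) (hw : IsCyc K q w) (p : ℤ) (hp : p + 1 = q) :
    cls K q z hz = cls K q w hw ↔ ∃ y : K.X p, (K.d p q).hom y = z - w := by
  rw [← sub_eq_zero, ← cls_sub hz hw (isCyc_sub hz hw), cls_eq_zero_iff _ p hp]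

lemma map_isCyc {L : Cx.{u}} (φ : K ⟶ L) {z : K.X q} (hz : IsCyc K q z) : IsCyc L q ((φ.f q).hom z) := fun j => by
  have h := ConcreteCategory.congr_hom (φ.comm q j) z
  refine h.trans ?_
  show (φ.f j).hom ((K.d q j).hom z) = 0
  rw [hz j, map_zero]

lemma homologyMap_cls {L : Cx.{u}} (φ : K ⟶ L) {z : K.X q} (hz : IsCyc K q z) :
    (homologyMap φ q).hom (cls K q z hz) = cls L q ((φ.f q).hom z) (map_isCyc φ hz) := by
  let ψ := (shortComplexFunctor AddCommGrpCat.{u} (ComplexShape.up ℤ) q).map φ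
  refine (ConcreteCategory.congr_hom (ShortComplex.homologyπ_naturality ψ) _).trans ?_
  show (L.sc q).homologyπ.hom ((ShortComplex.cyclesMap ψ).hom _) = _
  refine congrArg (L.sc q).homologyπ.hom ((AddCommGrpCat.mono_iff_injective (L.sc q).iCycles).1 inferInstance ?_)
  refine (ConcreteCategory.congr_hom (ShortComplex.cyclesMap_i ψ) _).trans ?_
  show (φ.f q).hom ((K.sc q).iCycles.hom _) = (L.sc q).iCycles.hom _
  exact (congrArg (φ.f q).hom (ShortComplex.abCyclesIso_inv_apply_iCycles _ _)).trans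
    (ShortComplex.abCyclesIso_inv_apply_iCycles (L.sc q) ⟨(φ.f q).hom z, map_isCyc φ hz _⟩).symm

end Single

section Tower

variable (K : ℕᵒᵖ ⥤ Cx.{u})

/-- The tower in one degree. -/
abbrev deg (q : ℤ) : ℕᵒᵖ ⥤ AddCommGrpCat.{u} := K ⋙ HomologicalComplex.eval _ _ q

/-- The cohomology tower. -/
abbrev coh (q : ℤ) : ℕᵒᵖ ⥤ AddCommGrpCat.{u} := K ⋙ HomologicalComplex.homologyFunctor _ _ q

/-- The transition map in one degree. -/
def trd (q : ℤ) {i j : ℕ} (h : i ≤ j) : (K.obj (op j)).X q →+ (K.obj (op i)).X q :=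
  ((K.map (homOfLE h).op).f q).hom

/-- The transition map in cohomology. -/
def trh (q : ℤ) {i j : ℕ} (h : i ≤ j) : (K.obj (op j)).homology q →+ (K.obj (op i)).homology q :=
  (homologyMap (K.map (homOfLE h).op) q).hom

/-- The successive transition map in one degree. -/
def trs (q : ℤ) (k : ℕ) : (K.obj (op (k + 1))).X q →+ (K.obj (op k)).X q := trd K q (Nat.le_succ k)

/-- The successive transition map in cohomology. -/
def trhs (q : ℤ) (k : ℕ) : (K.obj (op (k + 1))).homology q →+ (K.obj (op k)).homology q := trh K q (Nat.le_succ k)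

lemma tr_d' {p q : ℤ} {i j : ℕ} (h : i ≤ j) (x : (K.obj (op j)).X p) :
    trd K q h (((K.obj (op j)).d p q).hom x) =
      ((K.obj (op i)).d p q).hom (trd K p h x) :=
  (ConcreteCategory.congr_hom ((K.map (homOfLE h).op).comm p q) x).symm

lemma tr_cls {q : ℤ} {i j : ℕ} (h : i ≤ j) (z : (K.obj (op j)).X q) (hz : IsCyc (K.obj (op j)) q z) :
    trh K q h (cls _ q z hz) =
      cls (K.obj (op i)) q (trd K q h z) (map_isCyc (K.map (homOfLE h).op) hz) :=
  homologyMap_cls (K.map (homOfLE h).op) hz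

lemma tr_d {p q : ℤ} (k : ℕ) (x : (K.obj (op (k + 1))).X p) :
    trs K q k (((K.obj (op (k + 1))).d p q).hom x) = ((K.obj (op k)).d p q).hom (trs K p k x) :=
  tr_d' K (Nat.le_succ k) x

lemma isCyc_trs {q : ℤ} {k : ℕ} {z : (K.obj (op (k + 1))).X q} (hz : IsCyc _ q z) :
    IsCyc (K.obj (op k)) q (trs K q k z) :=
  map_isCyc (K.map (homOfLE (Nat.le_succ k)).op) hz

lemma tr_cls_succ {q : ℤ} (k : ℕ) (z : (K.obj (op (k + 1))).X q) (hz : IsCyc _ q z) :
    trhs K q k (cls _ q z hz) = cls (K.obj (op k)) q (trs K q k z) (isCyc_trs K hz) :=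
  tr_cls K (Nat.le_succ k) z hz

/-- A component of an element of the limit complex. -/
def proj (q : ℤ) (k : ℕ) : (limit K).X q →+ (K.obj (op k)).X q := ((limit.π K (op k)).f q).hom

lemma proj_ext {q : ℤ} {x y : (limit K).X q} (h : ∀ k, proj K q k x = proj K q k y) : x = y :=
  Concrete.isLimit_ext (deg K q) (isLimitOfPreserves (HomologicalComplex.eval _ _ q) (limit.isLimit K)) x y
    (fun ⟨k⟩ => h k)

lemma proj_compatible {q : ℤ} (x : (limit K).X q) :
    TowerLib.Compatible (deg K q) fun k => proj K q k x := fun k =>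
  ConcreteCategory.congr_hom (congrArg (fun f => f.f q) (limit.w K (homOfLE (Nat.le_succ k)).op)) x

lemma trs_proj {q : ℤ} (x : (limit K).X q) (k : ℕ) : trs K q k (proj K q (k + 1) x) = proj K q k x :=
  proj_compatible K x k

lemma exists_proj {q : ℤ} {x : ∀ k, (K.obj (op k)).X q} (hx : TowerLib.Compatible (deg K q) x) :
    ∃ l : (limit K).X q, ∀ k, proj K q k l = x k := by
  obtain ⟨l, hl⟩ := hx.exists_lift (deg K q)
  let hL := isLimitOfPreserves (HomologicalComplex.eval AddCommGrpCat.{u} (ComplexShape.up ℤ) q) (limit.isLimit K)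
  refine ⟨(hL.lift (limit.cone (deg K q))).hom l, fun k => ?_⟩
  exact (ConcreteCategory.congr_hom (hL.fac (limit.cone (deg K q)) (op k)) l).trans (hl k)

lemma proj_d {p q : ℤ} (k : ℕ) (x : (limit K).X p) :
    proj K q k (((limit K).d p q).hom x) = ((K.obj (op k)).d p q).hom (proj K p k x) :=
  (ConcreteCategory.congr_hom ((limit.π K (op k)).comm p q) x).symm

lemma isCyc_proj {q : ℤ} {z : (limit K).X q} (hz : IsCyc (limit K) q z) (k : ℕ) :
    IsCyc (K.obj (op k)) q (proj K q k z) := map_isCyc (limit.π K (op k)) hz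

lemma π_post_cls {q : ℤ} {z : (limit K).X q} (hz : IsCyc (limit K) q z) (k : ℕ) :
    (limit.π (coh K q) (op k)).hom ((limit.post K (homologyFunctor _ _ q)).hom (cls (limit K) q z hz)) =
      cls (K.obj (op k)) q (proj K q k z) (isCyc_proj K hz k) := by
  refine (ConcreteCategory.congr_hom (limit.post_π K (homologyFunctor _ _ q) (op k)) _).trans ?_
  exact homologyMap_cls (limit.π K (op k)) hz

/-- The first derived limit of the degree `q` part vanishes. -/
def SolvD (q : ℤ) : Prop :=
  ∀ y : ∀ n, (K.obj (op n)).X q, ∃ x : ∀ n, (K.obj (op n)).X q, ∀ n, x n - trs K q n (x (n + 1)) = y n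

/-- The first derived limit of the cohomology in degree `q` vanishes. -/
def SolvH (q : ℤ) : Prop :=
  ∀ y : ∀ n, (K.obj (op n)).homology q, ∃ x : ∀ n, (K.obj (op n)).homology q,
    ∀ n, x n - trhs K q n (x (n + 1)) = y n

lemma cls_eq_zero_of_comp {p q : ℤ} (hp : p + 1 = q) {z : (limit K).X q} (hz : IsCyc (limit K) q z)
    {y : ∀ k, (K.obj (op k)).X p} (hy : TowerLib.Compatible (deg K p) y)
    (hd : ∀ k, ((K.obj (op k)).d p q).hom (y k) = proj K q k z) : cls (limit K) q z hz = 0 := by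
  obtain ⟨l, hl⟩ := exists_proj K hy
  exact (cls_eq_zero_iff hz p hp).2 ⟨l, proj_ext K fun k => by rw [proj_d, hl, hd]⟩

theorem surjective_post {p q : ℤ} (hp : p + 1 = q) (h1 : SolvD K p) :
    Function.Surjective (limit.post K (homologyFunctor _ _ q)).hom := by
  intro ξ
  choose z hz hzc using fun k => cls_surjective ((limit.π (coh K q) (op k)).hom ξ)
  have hw : ∀ k, ∃ y, ((K.obj (op k)).d p q).hom y = z k - trs K q k (z (k + 1)) :=
    fun k => (cls_eq_iff (hz k) (isCyc_trs K (hz (k + 1))) p hp).1 (by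
      refine Eq.trans ?_ (tr_cls_succ K k (z (k + 1)) (hz (k + 1)))
      rw [hzc, hzc]
      exact (ConcreteCategory.congr_hom (limit.w (coh K q) (homOfLE (Nat.le_succ k)).op) ξ).symm)
  choose y hy using hw
  obtain ⟨x, hx⟩ := h1 y
  let z' : ∀ k, (K.obj (op k)).X q := fun k => z k - ((K.obj (op k)).d p q).hom (x k)
  have hz' : TowerLib.Compatible (deg K q) z' := fun k => by
    have h := hy k
    rw [← hx k, map_sub, ← tr_d] at h
    show trs K q k (z (k + 1) - _) = z k - _
    rw [map_sub]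
    rw [sub_eq_sub_iff_add_eq_add] at h ⊢
    exact (add_comm _ _).trans h
  obtain ⟨l, hl⟩ := exists_proj K hz'
  have hlc : IsCyc (limit K) q l := fun j => proj_ext K fun k => by
    rw [proj_d, hl, map_zero]
    exact isCyc_sub (hz k) (isCyc_d p (x k)) j
  refine ⟨cls _ q l hlc, Concrete.limit_ext _ _ _ fun ⟨k⟩ => ?_⟩
  rw [π_post_cls, ← hzc k, cls_eq_iff _ _ p hp]
  refine ⟨-(x k), ?_⟩
  rw [map_neg, hl]
  simp only [z']
  abel

theorem injective_post {r p q : ℤ} (hr : r + 1 = p) (hp : p + 1 = q) (hH : SolvH K p) (h2 : SolvD K r) :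
    Function.Injective (limit.post K (homologyFunctor _ _ q)).hom := by
  rw [injective_iff_map_eq_zero]
  intro a ha
  obtain ⟨z, hz, rfl⟩ := cls_surjective a
  have h0 : ∀ k, ∃ y, ((K.obj (op k)).d p q).hom y = proj K q k z := fun k =>
    (cls_eq_zero_iff _ p hp).1 (by rw [← π_post_cls K hz k, ha, map_zero])
  choose y hy using h0
  let c : ∀ k, (K.obj (op k)).X p := fun k => y k - trs K p k (y (k + 1))
  have hc : ∀ k, IsCyc (K.obj (op k)) p (c k) := fun k => isCyc_of_succ q hp (by
    rw [map_sub, ← tr_d, hy, hy, sub_eq_zero]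
    exact (proj_compatible K z k).symm)
  obtain ⟨g, hg⟩ := hH fun k => cls _ p (c k) (hc k)
  choose e₀ he₀ he₀c using fun k => cls_surjective (g k)
  have hw : ∀ k, ∃ w, ((K.obj (op k)).d r p).hom w =
      c k - (e₀ k - trs K p k (e₀ (k + 1))) := fun k => by
    have ht := isCyc_trs K (he₀ (k + 1))
    refine (cls_eq_iff (hc k) (isCyc_sub (he₀ k) ht) r hr).1 ?_
    rw [cls_sub (he₀ k) ht, ← hg k, ← he₀c k, ← he₀c (k + 1), tr_cls_succ]
  choose w hw using hw
  obtain ⟨v, hv⟩ := h2 w
  refine cls_eq_zero_of_comp K hp hz (y := fun k => y k - e₀ k - ((K.obj (op k)).d r p).hom (v k)) ?_ ?_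
  · intro k
    have h := hw k
    rw [← hv k, map_sub, ← tr_d] at h
    simp only [c] at h
    show trs K p k (y (k + 1) - e₀ (k + 1) - _) = y k - e₀ k - _
    rw [map_sub, map_sub]
    rw [← sub_eq_zero] at h ⊢
    rw [← h]
    abel
  · intro k
    rw [map_sub, map_sub, hy, he₀ k q, isCyc_d r (v k) q, sub_zero, sub_zero]

lemma solvD_of_surjective (q : ℤ)
    (h : ∀ n, Function.Surjective (trs K q n)) : SolvD K q := by
  intro y
  choose s hs using h
  let x : ∀ n, (K.obj (op n)).X q := fun n =>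
    Nat.rec (motive := fun n => (K.obj (op n)).X q) 0 (fun n w => s n (w - y n)) n
  exact ⟨x, fun n => by show x n - trs K q n (s n (x n - y n)) = y n; rw [hs]; abel⟩

theorem nonempty_ker_post {p q : ℤ} (hp : p + 1 = q)
    (hs : ∀ (n : ℕ) (i : ℤ), Function.Surjective (trs K i n)) :
    Nonempty ((limit.post K (homologyFunctor _ _ q)).hom.ker ≃+
      ((∀ n, (K.obj (op n)).homology p) ⧸ (AddMonoidHom.mk' (fun (x : ∀ n, (K.obj (op n)).homology p) n =>
        x n - trhs K p n (x (n + 1))) (fun a b => funext fun n => by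
          simp only [Pi.add_apply, map_add]; abel)).range)) := by
  classical
  let D := AddMonoidHom.mk' (fun (x : ∀ n, (K.obj (op n)).homology p) n =>
        x n - trhs K p n (x (n + 1))) (fun a b => funext fun n => by
          simp only [Pi.add_apply, map_add]; abel)
  let Z : AddSubgroup (∀ n, (K.obj (op n)).X p) :=
    ⨅ (n : ℕ) (j : ℤ), (((K.obj (op n)).d p j).hom.comp (Pi.evalAddMonoidHom _ n)).ker
  have hZ : ∀ c, c ∈ Z ↔ ∀ n, IsCyc (K.obj (op n)) p (c n) := fun c => by
    simp [Z, AddSubgroup.mem_iInf, IsCyc]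
  let Ψ : Z →+ ((∀ n, (K.obj (op n)).homology p) ⧸ D.range) :=
    (QuotientAddGroup.mk' _).comp (AddMonoidHom.mk' (fun c n => cls _ p (c.1 n) ((hZ c.1).1 c.2 n))
      (fun a b => funext fun n => cls_add _ _ _))
  have hΨ : Function.Surjective Ψ := fun g => by
    obtain ⟨h, rfl⟩ := QuotientAddGroup.mk_surjective g
    choose e he hec using fun n => cls_surjective (h n)
    exact ⟨⟨e, (hZ e).2 he⟩, congrArg QuotientAddGroup.mk (funext hec)⟩
  have solve : ∀ c : Z, ∃ (l : (limit K).X q) (y : ∀ n, (K.obj (op n)).X p),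
      (∀ n, y n - trs K p n (y (n + 1)) = c.1 n) ∧
      ∀ n, proj K q n l = ((K.obj (op n)).d p q).hom (y n) := fun c => by
    obtain ⟨y, hy⟩ := solvD_of_surjective K p (fun n => hs n p) c.1
    obtain ⟨l, hl⟩ := exists_proj K (x := fun n => ((K.obj (op n)).d p q).hom (y n)) (fun n => by
      have h := congrArg ((K.obj (op n)).d p q).hom (hy n)
      rw [map_sub, (hZ c.1).1 c.2 n q, ← tr_d, sub_eq_zero] at h
      exact h.symm)
    exact ⟨l, y, hy, hl⟩
  choose L Y hY hL using solve
  have hLc : ∀ c, IsCyc (limit K) q (L c) := fun c j => proj_ext K fun n => by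
    rw [proj_d, hL, map_zero]
    exact isCyc_d p _ j
  have zero_iff : ∀ c : Z, cls (limit K) q (L c) (hLc c) = 0 ↔
      ∃ e : Z, ∀ n, e.1 n - trs K p n (e.1 (n + 1)) = c.1 n := by
    intro c
    constructor
    · intro h
      obtain ⟨y₀, hy₀⟩ := (cls_eq_zero_iff _ p hp).1 h
      refine ⟨⟨fun n => Y c n - proj K p n y₀, (hZ _).2 fun n => isCyc_of_succ q hp ?_⟩, fun n => ?_⟩
      · rw [map_sub, ← proj_d, hy₀, hL, sub_self]
      · show Y c n - _ - trs K p n (Y c (n + 1) - _) = _
        rw [map_sub, trs_proj K y₀ n, ← hY c n]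
        abel
    · rintro ⟨e, he⟩
      refine cls_eq_zero_of_comp K hp (hLc c) (y := fun n => Y c n - e.1 n) (fun n => ?_) (fun n => ?_)
      · show trs K p n (Y c (n + 1) - e.1 (n + 1)) = Y c n - e.1 n
        have h := (hY c n).trans (he n).symm
        rw [map_sub]
        rw [sub_eq_sub_iff_add_eq_add] at h ⊢
        rw [add_comm, ← h]
      · rw [map_sub, hL, (hZ e.1).1 e.2 n q, sub_zero]
  let Φ : Z →+ (limit.post K (homologyFunctor _ _ q)).hom.ker :=
    AddMonoidHom.mk' (fun c => ⟨cls (limit K) q (L c) (hLc c), AddMonoidHom.mem_ker.2 (Concrete.limit_ext _ _ _ fun ⟨n⟩ => by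
        rw [π_post_cls, map_zero, cls_eq_zero_iff _ p hp]
        exact ⟨Y c n, (hL c n).symm⟩)⟩) (fun a b => Subtype.ext (by
      show cls _ _ _ (hLc (a + b)) = cls _ _ _ (hLc a) + cls _ _ _ (hLc b)
      have hab : IsCyc (limit K) q (L a + L b) := fun j => by rw [map_add, hLc a j, hLc b j, add_zero]
      rw [← cls_add (hLc a) (hLc b) hab, cls_eq_iff (hLc (a + b)) hab p hp]
      obtain ⟨l, hl⟩ := exists_proj K (x := fun n => Y (a + b) n - (Y a n + Y b n)) (fun n => by
        show trs K p n (Y (a + b) (n + 1) - _) = _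
        have h1 := hY (a + b) n
        have h2 := hY a n
        have h3 := hY b n
        rw [map_sub, map_add]
        have h : Y (a + b) n - trs K p n (Y (a + b) (n + 1)) =
            (Y a n - trs K p n (Y a (n + 1))) +
              (Y b n - trs K p n (Y b (n + 1))) := by rw [h1, h2, h3]; rfl
        rw [← sub_eq_zero] at h ⊢
        rw [← neg_eq_zero, ← h]
        abel)
      exact ⟨l, proj_ext K fun n => by rw [proj_d, hl, map_sub, map_sub, map_add, map_add, hL, hL, hL]⟩))
  have hΦ : Function.Surjective Φ := fun ⟨a, ha⟩ => by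
    obtain ⟨z, hz, rfl⟩ := cls_surjective a
    have h0 : ∀ k, ∃ y, ((K.obj (op k)).d p q).hom y = proj K q k z := fun k =>
      (cls_eq_zero_iff _ p hp).1 (by rw [← π_post_cls K hz k, AddMonoidHom.mem_ker.1 ha, map_zero])
    choose y hy using h0
    let c : Z := ⟨fun k => y k - trs K p k (y (k + 1)), (hZ _).2 fun k => isCyc_of_succ q hp (by
      rw [map_sub, ← tr_d, hy, hy, sub_eq_zero]
      exact (proj_compatible K z k).symm)⟩
    refine ⟨c, Subtype.ext ?_⟩
    show cls _ _ _ (hLc c) = cls _ _ _ hz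
    rw [cls_eq_iff (hLc c) hz p hp]
    obtain ⟨l, hl⟩ := exists_proj K (x := fun n => Y c n - y n) (fun n => by
      show trs K p n (Y c (n + 1) - y (n + 1)) = _
      have h : Y c n - trs K p n (Y c (n + 1)) =
          y n - trs K p n (y (n + 1)) := hY c n
      rw [map_sub]
      rw [sub_eq_sub_iff_add_eq_add] at h ⊢
      rw [add_comm, ← h])
    exact ⟨l, proj_ext K fun n => by rw [proj_d, hl, map_sub, map_sub, hL, hy]⟩
  have hker : Φ.ker = Ψ.ker := by
    ext c
    rw [AddMonoidHom.mem_ker, AddMonoidHom.mem_ker]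
    refine Subtype.ext_iff.trans ((zero_iff c).trans ?_)
    show _ ↔ QuotientAddGroup.mk _ = 0
    rw [QuotientAddGroup.eq_zero_iff, AddMonoidHom.mem_range]
    constructor
    · rintro ⟨e, he⟩
      refine ⟨fun n => cls _ p (e.1 n) ((hZ e.1).1 e.2 n), funext fun n => ?_⟩
      show _ - trhs K p n _ = cls _ _ _ ((hZ c.1).1 c.2 n)
      rw [tr_cls_succ, ← cls_sub _ _ (isCyc_sub ((hZ e.1).1 e.2 n) (isCyc_trs K ((hZ e.1).1 e.2 (n + 1))))]
      exact cls_congr _ _ (he n)
    · rintro ⟨h, hh⟩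
      choose e he hec using fun n => cls_surjective (h n)
      obtain ⟨r, hr⟩ : ∃ r, r + 1 = p := ⟨p - 1, by omega⟩
      have hw : ∀ n, ∃ w, ((K.obj (op n)).d r p).hom w =
          c.1 n - (e n - trs K p n (e (n + 1))) := fun n => by
        have ht := isCyc_trs K (he (n + 1))
        refine (cls_eq_iff ((hZ c.1).1 c.2 n) (isCyc_sub (he n) ht) r hr).1 ?_
        rw [cls_sub (he n) ht, ← tr_cls_succ K n (e (n + 1)) (he (n + 1)), hec, hec]
        exact (congrFun hh n).symm
      choose w hw using hw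
      obtain ⟨v, hv⟩ := solvD_of_surjective K r (fun n => hs n r) w
      refine ⟨⟨fun n => e n + ((K.obj (op n)).d r p).hom (v n),
        (hZ _).2 fun n j => by rw [map_add, he n j, isCyc_d r (v n) j, add_zero]⟩, fun n => ?_⟩
      have h := hw n
      rw [← hv n, map_sub, ← tr_d] at h
      show e n + _ - trs K p n (e (n + 1) + _) = _
      rw [map_add]
      rw [← sub_eq_zero] at h ⊢
      rw [← h]
      abel
  exact ⟨(QuotientAddGroup.quotientKerEquivOfSurjective Φ hΦ).symm.trans
    ((QuotientAddGroup.quotientAddEquivOfEq hker).trans (QuotientAddGroup.quotientKerEquivOfSurjective Ψ hΨ))⟩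

end Tower

end Groth.Agent.TowerCx
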